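import Cfsg.Agent.Lib.Fus.J3Uniq.Cert.HsPart0
import Cfsg.Agent.Lib.Fus.J3Uniq.Cert.HsPart1

/-! A checked coset enumeration. -/

set_option autoImplicit false
set_option maxRecDepth 100000
set_option maxHeartbeats 4000000

open Cfsg.Agent.Spor.Cos

namespace Cfsg.Agent.Fus.J3Uniq.Cert

theorem hs_def0 : allBlock hs.chkDef 8159 512 0 = true := by decide +kernel

theorem hs_def1 : allBlock hs.chkDef 8159 512 1 = true := by decide +kernel

theorem hs_def2 : allBlock hs.chkDef 8159 512 2 = true := by decide +kernel

theorem hs_def3 : allBlock hs.chkDef 8159 512 3 = true := by decide +kernel

theorem hs_def4 : allBlock hs.chkDef 8159 512 4 = true := by decide +kernel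

theorem hs_def5 : allBlock hs.chkDef 8159 512 5 = true := by decide +kernel

theorem hs_def6 : allBlock hs.chkDef 8159 512 6 = true := by decide +kernel

theorem hs_def7 : allBlock hs.chkDef 8159 512 7 = true := by decide +kernel

theorem hs_def8 : allBlock hs.chkDef 8159 512 8 = true := by decide +kernel

theorem hs_def9 : allBlock hs.chkDef 8159 512 9 = true := by decide +kernel

theorem hs_def10 : allBlock hs.chkDef 8159 512 10 = true := by decide +kernel

theorem hs_def11 : allBlock hs.chkDef 8159 512 11 = true := by decide +kernel

theorem hs_def12 : allBlock hs.chkDef 8159 512 12 = true := by decide +kernel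

theorem hs_def13 : allBlock hs.chkDef 8159 512 13 = true := by decide +kernel

theorem hs_def14 : allBlock hs.chkDef 8159 512 14 = true := by decide +kernel

theorem hs_def15 : allBlock hs.chkDef 8159 512 15 = true := by decide +kernel

theorem hs_defs : ∀ i, i + 1 < hs.M → hs.chkDef i = true := by
  intro i hi
  change i + 1 < 8160 at hi
  refine of_allBlock (n := 8159) (size := 512) (by decide) (fun j hj => ?_) (by omega)
  have hj' : j < 16 := by omega
  interval_cases j
  · exact hs_def0
  · exact hs_def1
  · exact hs_def2
  · exact hs_def3
  · exact hs_def4
  · exact hs_def5
  · exact hs_def6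
  · exact hs_def7
  · exact hs_def8
  · exact hs_def9
  · exact hs_def10
  · exact hs_def11
  · exact hs_def12
  · exact hs_def13
  · exact hs_def14
  · exact hs_def15

theorem hs_facts : ∀ i, hs.M ≤ i + 1 → i < hs.nF → ∃ J, hs.chkFact i J = true := by
  exact hs.facts_of_covers (Log.Covers.trans hs (Log.Covers.trans hs (Log.Covers.trans hs (Log.Covers.trans hs (hs.covers_of_part _ _ _ hs_part0) (hs.covers_of_part _ _ _ hs_part1)) (Log.Covers.trans hs (hs.covers_of_part _ _ _ hs_part2) (hs.covers_of_part _ _ _ hs_part3))) (Log.Covers.trans hs (Log.Covers.trans hs (hs.covers_of_part _ _ _ hs_part4) (hs.covers_of_part _ _ _ hs_part5)) (Log.Covers.trans hs (hs.covers_of_part _ _ _ hs_part6) (hs.covers_of_part _ _ _ hs_part7)))) (Log.Covers.trans hs (Log.Covers.trans hs (Log.Covers.trans hs (hs.covers_of_part _ _ _ hs_part8) (hs.covers_of_part _ _ _ hs_part9)) (Log.Covers.trans hs (hs.covers_of_part _ _ _ hs_part10) (hs.covers_of_part _ _ _ hs_part11))) (Log.Covers.trans hs (Log.Covers.trans hs (hs.covers_of_part _ _ _ hs_part12) (hs.covers_of_part _ _ _ hs_part13)) (Log.Covers.trans hs (hs.covers_of_part _ _ _ hs_part14) (hs.covers_of_part _ _ _ hs_part15))))) rfl rfl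

theorem hs_final0 : allBlock hs.chkFinal 40800 512 0 = true := by decide +kernel

theorem hs_final1 : allBlock hs.chkFinal 40800 512 1 = true := by decide +kernel

theorem hs_final2 : allBlock hs.chkFinal 40800 512 2 = true := by decide +kernel

theorem hs_final3 : allBlock hs.chkFinal 40800 512 3 = true := by decide +kernel

theorem hs_final4 : allBlock hs.chkFinal 40800 512 4 = true := by decide +kernel

theorem hs_final5 : allBlock hs.chkFinal 40800 512 5 = true := by decide +kernel

theorem hs_final6 : allBlock hs.chkFinal 40800 512 6 = true := by decide +kernel

theorem hs_final7 : allBlock hs.chkFinal 40800 512 7 = true := by decide +kernel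

theorem hs_final8 : allBlock hs.chkFinal 40800 512 8 = true := by decide +kernel

theorem hs_final9 : allBlock hs.chkFinal 40800 512 9 = true := by decide +kernel

theorem hs_final10 : allBlock hs.chkFinal 40800 512 10 = true := by decide +kernel

theorem hs_final11 : allBlock hs.chkFinal 40800 512 11 = true := by decide +kernel

theorem hs_final12 : allBlock hs.chkFinal 40800 512 12 = true := by decide +kernel

theorem hs_final13 : allBlock hs.chkFinal 40800 512 13 = true := by decide +kernel

theorem hs_final14 : allBlock hs.chkFinal 40800 512 14 = true := by decide +kernel

theorem hs_final15 : allBlock hs.chkFinal 40800 512 15 = true := by decide +kernel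

theorem hs_final16 : allBlock hs.chkFinal 40800 512 16 = true := by decide +kernel

theorem hs_final17 : allBlock hs.chkFinal 40800 512 17 = true := by decide +kernel

theorem hs_final18 : allBlock hs.chkFinal 40800 512 18 = true := by decide +kernel

theorem hs_final19 : allBlock hs.chkFinal 40800 512 19 = true := by decide +kernel

theorem hs_final20 : allBlock hs.chkFinal 40800 512 20 = true := by decide +kernel

theorem hs_final21 : allBlock hs.chkFinal 40800 512 21 = true := by decide +kernel

theorem hs_final22 : allBlock hs.chkFinal 40800 512 22 = true := by decide +kernel

theorem hs_final23 : allBlock hs.chkFinal 40800 512 23 = true := by decide +kernel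

theorem hs_final24 : allBlock hs.chkFinal 40800 512 24 = true := by decide +kernel

theorem hs_final25 : allBlock hs.chkFinal 40800 512 25 = true := by decide +kernel

theorem hs_final26 : allBlock hs.chkFinal 40800 512 26 = true := by decide +kernel

theorem hs_final27 : allBlock hs.chkFinal 40800 512 27 = true := by decide +kernel

theorem hs_final28 : allBlock hs.chkFinal 40800 512 28 = true := by decide +kernel

theorem hs_final29 : allBlock hs.chkFinal 40800 512 29 = true := by decide +kernel

theorem hs_final30 : allBlock hs.chkFinal 40800 512 30 = true := by decide +kernel

theorem hs_final31 : allBlock hs.chkFinal 40800 512 31 = true := by decide +kernel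

theorem hs_final32 : allBlock hs.chkFinal 40800 512 32 = true := by decide +kernel

theorem hs_final33 : allBlock hs.chkFinal 40800 512 33 = true := by decide +kernel

theorem hs_final34 : allBlock hs.chkFinal 40800 512 34 = true := by decide +kernel

theorem hs_final35 : allBlock hs.chkFinal 40800 512 35 = true := by decide +kernel

theorem hs_final36 : allBlock hs.chkFinal 40800 512 36 = true := by decide +kernel

theorem hs_final37 : allBlock hs.chkFinal 40800 512 37 = true := by decide +kernel

theorem hs_final38 : allBlock hs.chkFinal 40800 512 38 = true := by decide +kernel

theorem hs_final39 : allBlock hs.chkFinal 40800 512 39 = true := by decide +kernel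

theorem hs_final40 : allBlock hs.chkFinal 40800 512 40 = true := by decide +kernel

theorem hs_final41 : allBlock hs.chkFinal 40800 512 41 = true := by decide +kernel

theorem hs_final42 : allBlock hs.chkFinal 40800 512 42 = true := by decide +kernel

theorem hs_final43 : allBlock hs.chkFinal 40800 512 43 = true := by decide +kernel

theorem hs_final44 : allBlock hs.chkFinal 40800 512 44 = true := by decide +kernel

theorem hs_final45 : allBlock hs.chkFinal 40800 512 45 = true := by decide +kernel

theorem hs_final46 : allBlock hs.chkFinal 40800 512 46 = true := by decide +kernel

theorem hs_final47 : allBlock hs.chkFinal 40800 512 47 = true := by decide +kernel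

theorem hs_final48 : allBlock hs.chkFinal 40800 512 48 = true := by decide +kernel

theorem hs_final49 : allBlock hs.chkFinal 40800 512 49 = true := by decide +kernel

theorem hs_final50 : allBlock hs.chkFinal 40800 512 50 = true := by decide +kernel

theorem hs_final51 : allBlock hs.chkFinal 40800 512 51 = true := by decide +kernel

theorem hs_final52 : allBlock hs.chkFinal 40800 512 52 = true := by decide +kernel

theorem hs_final53 : allBlock hs.chkFinal 40800 512 53 = true := by decide +kernel

theorem hs_final54 : allBlock hs.chkFinal 40800 512 54 = true := by decide +kernel

theorem hs_final55 : allBlock hs.chkFinal 40800 512 55 = true := by decide +kernel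

theorem hs_final56 : allBlock hs.chkFinal 40800 512 56 = true := by decide +kernel

theorem hs_final57 : allBlock hs.chkFinal 40800 512 57 = true := by decide +kernel

theorem hs_final58 : allBlock hs.chkFinal 40800 512 58 = true := by decide +kernel

theorem hs_final59 : allBlock hs.chkFinal 40800 512 59 = true := by decide +kernel

theorem hs_final60 : allBlock hs.chkFinal 40800 512 60 = true := by decide +kernel

theorem hs_final61 : allBlock hs.chkFinal 40800 512 61 = true := by decide +kernel

theorem hs_final62 : allBlock hs.chkFinal 40800 512 62 = true := by decide +kernel

theorem hs_final63 : allBlock hs.chkFinal 40800 512 63 = true := by decide +kernel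

theorem hs_final64 : allBlock hs.chkFinal 40800 512 64 = true := by decide +kernel

theorem hs_final65 : allBlock hs.chkFinal 40800 512 65 = true := by decide +kernel

theorem hs_final66 : allBlock hs.chkFinal 40800 512 66 = true := by decide +kernel

theorem hs_final67 : allBlock hs.chkFinal 40800 512 67 = true := by decide +kernel

theorem hs_final68 : allBlock hs.chkFinal 40800 512 68 = true := by decide +kernel

theorem hs_final69 : allBlock hs.chkFinal 40800 512 69 = true := by decide +kernel

theorem hs_final70 : allBlock hs.chkFinal 40800 512 70 = true := by decide +kernel

theorem hs_final71 : allBlock hs.chkFinal 40800 512 71 = true := by decide +kernel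

theorem hs_final72 : allBlock hs.chkFinal 40800 512 72 = true := by decide +kernel

theorem hs_final73 : allBlock hs.chkFinal 40800 512 73 = true := by decide +kernel

theorem hs_final74 : allBlock hs.chkFinal 40800 512 74 = true := by decide +kernel

theorem hs_final75 : allBlock hs.chkFinal 40800 512 75 = true := by decide +kernel

theorem hs_final76 : allBlock hs.chkFinal 40800 512 76 = true := by decide +kernel

theorem hs_final77 : allBlock hs.chkFinal 40800 512 77 = true := by decide +kernel

theorem hs_final78 : allBlock hs.chkFinal 40800 512 78 = true := by decide +kernel

theorem hs_final79 : allBlock hs.chkFinal 40800 512 79 = true := by decide +kernel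

theorem hs_checks : hs.Checks where
  pos := by decide +kernel
  defs := hs_defs
  facts := hs_facts
  final := by
    intro k hk
    change k < 8160 * 5 at hk
    refine of_allBlock (n := 40800) (size := 512) (by decide) (fun j hj => ?_) (by omega)
    have hj' : j < 80 := by omega
    interval_cases j
    · exact hs_final0
    · exact hs_final1
    · exact hs_final2
    · exact hs_final3
    · exact hs_final4
    · exact hs_final5
    · exact hs_final6
    · exact hs_final7
    · exact hs_final8
    · exact hs_final9
    · exact hs_final10
    · exact hs_final11
    · exact hs_final12
    · exact hs_final13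
    · exact hs_final14
    · exact hs_final15
    · exact hs_final16
    · exact hs_final17
    · exact hs_final18
    · exact hs_final19
    · exact hs_final20
    · exact hs_final21
    · exact hs_final22
    · exact hs_final23
    · exact hs_final24
    · exact hs_final25
    · exact hs_final26
    · exact hs_final27
    · exact hs_final28
    · exact hs_final29
    · exact hs_final30
    · exact hs_final31
    · exact hs_final32
    · exact hs_final33
    · exact hs_final34
    · exact hs_final35
    · exact hs_final36
    · exact hs_final37
    · exact hs_final38
    · exact hs_final39
    · exact hs_final40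
    · exact hs_final41
    · exact hs_final42
    · exact hs_final43
    · exact hs_final44
    · exact hs_final45
    · exact hs_final46
    · exact hs_final47
    · exact hs_final48
    · exact hs_final49
    · exact hs_final50
    · exact hs_final51
    · exact hs_final52
    · exact hs_final53
    · exact hs_final54
    · exact hs_final55
    · exact hs_final56
    · exact hs_final57
    · exact hs_final58
    · exact hs_final59
    · exact hs_final60
    · exact hs_final61
    · exact hs_final62
    · exact hs_final63
    · exact hs_final64
    · exact hs_final65
    · exact hs_final66
    · exact hs_final67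
    · exact hs_final68
    · exact hs_final69
    · exact hs_final70
    · exact hs_final71
    · exact hs_final72
    · exact hs_final73
    · exact hs_final74
    · exact hs_final75
    · exact hs_final76
    · exact hs_final77
    · exact hs_final78
    · exact hs_final79

theorem hs_derived : hs.rels.all (derivedOk hs.n hsBase) = true := by decide +kernel

end Cfsg.Agent.Fus.J3Uniq.Cert
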