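import Cfsg.Agent.Lib.Fus.J3Uniq.Cert.TopPart0
import Cfsg.Agent.Lib.Fus.J3Uniq.Cert.TopPart1
import Cfsg.Agent.Lib.Fus.J3Uniq.Cert.TopPart2
import Cfsg.Agent.Lib.Fus.J3Uniq.Cert.TopPart3
import Cfsg.Agent.Lib.Fus.J3Uniq.Cert.TopPart4

/-! A checked coset enumeration. -/

set_option autoImplicit false
set_option maxRecDepth 100000
set_option maxHeartbeats 4000000

open Cfsg.Agent.Spor.Cos

namespace Cfsg.Agent.Fus.J3Uniq.Cert

theorem top_def0 : allBlock top.chkDef 18467 512 0 = true := by decide +kernel

theorem top_def1 : allBlock top.chkDef 18467 512 1 = true := by decide +kernel

theorem top_def2 : allBlock top.chkDef 18467 512 2 = true := by decide +kernel

theorem top_def3 : allBlock top.chkDef 18467 512 3 = true := by decide +kernel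

theorem top_def4 : allBlock top.chkDef 18467 512 4 = true := by decide +kernel

theorem top_def5 : allBlock top.chkDef 18467 512 5 = true := by decide +kernel

theorem top_def6 : allBlock top.chkDef 18467 512 6 = true := by decide +kernel

theorem top_def7 : allBlock top.chkDef 18467 512 7 = true := by decide +kernel

theorem top_def8 : allBlock top.chkDef 18467 512 8 = true := by decide +kernel

theorem top_def9 : allBlock top.chkDef 18467 512 9 = true := by decide +kernel

theorem top_def10 : allBlock top.chkDef 18467 512 10 = true := by decide +kernel

theorem top_def11 : allBlock top.chkDef 18467 512 11 = true := by decide +kernel

theorem top_def12 : allBlock top.chkDef 18467 512 12 = true := by decide +kernel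

theorem top_def13 : allBlock top.chkDef 18467 512 13 = true := by decide +kernel

theorem top_def14 : allBlock top.chkDef 18467 512 14 = true := by decide +kernel

theorem top_def15 : allBlock top.chkDef 18467 512 15 = true := by decide +kernel

theorem top_def16 : allBlock top.chkDef 18467 512 16 = true := by decide +kernel

theorem top_def17 : allBlock top.chkDef 18467 512 17 = true := by decide +kernel

theorem top_def18 : allBlock top.chkDef 18467 512 18 = true := by decide +kernel

theorem top_def19 : allBlock top.chkDef 18467 512 19 = true := by decide +kernel

theorem top_def20 : allBlock top.chkDef 18467 512 20 = true := by decide +kernel

theorem top_def21 : allBlock top.chkDef 18467 512 21 = true := by decide +kernel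

theorem top_def22 : allBlock top.chkDef 18467 512 22 = true := by decide +kernel

theorem top_def23 : allBlock top.chkDef 18467 512 23 = true := by decide +kernel

theorem top_def24 : allBlock top.chkDef 18467 512 24 = true := by decide +kernel

theorem top_def25 : allBlock top.chkDef 18467 512 25 = true := by decide +kernel

theorem top_def26 : allBlock top.chkDef 18467 512 26 = true := by decide +kernel

theorem top_def27 : allBlock top.chkDef 18467 512 27 = true := by decide +kernel

theorem top_def28 : allBlock top.chkDef 18467 512 28 = true := by decide +kernel

theorem top_def29 : allBlock top.chkDef 18467 512 29 = true := by decide +kernel

theorem top_def30 : allBlock top.chkDef 18467 512 30 = true := by decide +kernel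

theorem top_def31 : allBlock top.chkDef 18467 512 31 = true := by decide +kernel

theorem top_def32 : allBlock top.chkDef 18467 512 32 = true := by decide +kernel

theorem top_def33 : allBlock top.chkDef 18467 512 33 = true := by decide +kernel

theorem top_def34 : allBlock top.chkDef 18467 512 34 = true := by decide +kernel

theorem top_def35 : allBlock top.chkDef 18467 512 35 = true := by decide +kernel

theorem top_def36 : allBlock top.chkDef 18467 512 36 = true := by decide +kernel

theorem top_defs : ∀ i, i + 1 < top.M → top.chkDef i = true := by
  intro i hi
  change i + 1 < 18468 at hi
  refine of_allBlock (n := 18467) (size := 512) (by decide) (fun j hj => ?_) (by omega)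
  have hj' : j < 37 := by omega
  interval_cases j
  · exact top_def0
  · exact top_def1
  · exact top_def2
  · exact top_def3
  · exact top_def4
  · exact top_def5
  · exact top_def6
  · exact top_def7
  · exact top_def8
  · exact top_def9
  · exact top_def10
  · exact top_def11
  · exact top_def12
  · exact top_def13
  · exact top_def14
  · exact top_def15
  · exact top_def16
  · exact top_def17
  · exact top_def18
  · exact top_def19
  · exact top_def20
  · exact top_def21
  · exact top_def22
  · exact top_def23
  · exact top_def24
  · exact top_def25
  · exact top_def26
  · exact top_def27
  · exact top_def28
  · exact top_def29
  · exact top_def30
  · exact top_def31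
  · exact top_def32
  · exact top_def33
  · exact top_def34
  · exact top_def35
  · exact top_def36

theorem top_facts : ∀ i, top.M ≤ i + 1 → i < top.nF → ∃ J, top.chkFact i J = true := by
  exact top.facts_of_covers (Log.Covers.trans top (Log.Covers.trans top (Log.Covers.trans top (Log.Covers.trans top (Log.Covers.trans top (top.covers_of_part _ _ _ top_part0) (Log.Covers.trans top (top.covers_of_part _ _ _ top_part1) (top.covers_of_part _ _ _ top_part2))) (Log.Covers.trans top (top.covers_of_part _ _ _ top_part3) (Log.Covers.trans top (top.covers_of_part _ _ _ top_part4) (top.covers_of_part _ _ _ top_part5)))) (Log.Covers.trans top (Log.Covers.trans top (top.covers_of_part _ _ _ top_part6) (Log.Covers.trans top (top.covers_of_part _ _ _ top_part7) (top.covers_of_part _ _ _ top_part8))) (Log.Covers.trans top (top.covers_of_part _ _ _ top_part9) (Log.Covers.trans top (top.covers_of_part _ _ _ top_part10) (top.covers_of_part _ _ _ top_part11))))) (Log.Covers.trans top (Log.Covers.trans top (Log.Covers.trans top (top.covers_of_part _ _ _ top_part12) (Log.Covers.trans top (top.covers_of_part _ _ _ top_part13) (top.covers_of_part _ _ _ top_part14))) (Log.Covers.trans top (top.covers_of_part _ _ _ top_part15) (Log.Covers.trans top (top.covers_of_part _ _ _ top_part16) (top.covers_of_part _ _ _ top_part17)))) (Log.Covers.trans top (Log.Covers.trans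 top (top.covers_of_part _ _ _ top_part18) (Log.Covers.trans top (top.covers_of_part _ _ _ top_part19) (top.covers_of_part _ _ _ top_part20))) (Log.Covers.trans top (top.covers_of_part _ _ _ top_part21) (Log.Covers.trans top (top.covers_of_part _ _ _ top_part22) (top.covers_of_part _ _ _ top_part23)))))) (Log.Covers.trans top (Log.Covers.trans top (Log.Covers.trans top (Log.Covers.trans top (top.covers_of_part _ _ _ top_part24) (Log.Covers.trans top (top.covers_of_part _ _ _ top_part25) (top.covers_of_part _ _ _ top_part26))) (Log.Covers.trans top (top.covers_of_part _ _ _ top_part27) (Log.Covers.trans top (top.covers_of_part _ _ _ top_part28) (top.covers_of_part _ _ _ top_part29)))) (Log.Covers.trans top (Log.Covers.trans top (top.covers_of_part _ _ _ top_part30) (Log.Covers.trans top (top.covers_of_part _ _ _ top_part31) (top.covers_of_part _ _ _ top_part32))) (Log.Covers.trans top (top.covers_of_part _ _ _ top_part33) (Log.Covers.trans top (top.covers_of_part _ _ _ top_part34) (top.covers_of_part _ _ _ top_part35))))) (Log.Covers.trans top (Log.Covers.trans top (Log.Covers.trans top (top.covers_of_part _ _ _ top_part36) (Log.Covers.trans top (top.covers_of_part _ _ _ top_part37) (top.covers_of_part _ _ _ top_part38))) (Log.Covers.trans top (top.covers_of_part _ _ _ top_part39) (Log.Covers.trans top (top.covers_of_part _ _ _ top_part40)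 (top.covers_of_part _ _ _ top_part41)))) (Log.Covers.trans top (Log.Covers.trans top (top.covers_of_part _ _ _ top_part42) (Log.Covers.trans top (top.covers_of_part _ _ _ top_part43) (top.covers_of_part _ _ _ top_part44))) (Log.Covers.trans top (Log.Covers.trans top (top.covers_of_part _ _ _ top_part45) (top.covers_of_part _ _ _ top_part46)) (Log.Covers.trans top (top.covers_of_part _ _ _ top_part47) (top.covers_of_part _ _ _ top_part48))))))) rfl rfl

theorem top_final0 : allBlock top.chkFinal 110808 512 0 = true := by decide +kernel

theorem top_final1 : allBlock top.chkFinal 110808 512 1 = true := by decide +kernel

theorem top_final2 : allBlock top.chkFinal 110808 512 2 = true := by decide +kernel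

theorem top_final3 : allBlock top.chkFinal 110808 512 3 = true := by decide +kernel

theorem top_final4 : allBlock top.chkFinal 110808 512 4 = true := by decide +kernel

theorem top_final5 : allBlock top.chkFinal 110808 512 5 = true := by decide +kernel

theorem top_final6 : allBlock top.chkFinal 110808 512 6 = true := by decide +kernel

theorem top_final7 : allBlock top.chkFinal 110808 512 7 = true := by decide +kernel

theorem top_final8 : allBlock top.chkFinal 110808 512 8 = true := by decide +kernel

theorem top_final9 : allBlock top.chkFinal 110808 512 9 = true := by decide +kernel

theorem top_final10 : allBlock top.chkFinal 110808 512 10 = true := by decide +kernel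

theorem top_final11 : allBlock top.chkFinal 110808 512 11 = true := by decide +kernel

theorem top_final12 : allBlock top.chkFinal 110808 512 12 = true := by decide +kernel

theorem top_final13 : allBlock top.chkFinal 110808 512 13 = true := by decide +kernel

theorem top_final14 : allBlock top.chkFinal 110808 512 14 = true := by decide +kernel

theorem top_final15 : allBlock top.chkFinal 110808 512 15 = true := by decide +kernel

theorem top_final16 : allBlock top.chkFinal 110808 512 16 = true := by decide +kernel

theorem top_final17 : allBlock top.chkFinal 110808 512 17 = true := by decide +kernel

theorem top_final18 : allBlock top.chkFinal 110808 512 18 = true := by decide +kernel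

theorem top_final19 : allBlock top.chkFinal 110808 512 19 = true := by decide +kernel

theorem top_final20 : allBlock top.chkFinal 110808 512 20 = true := by decide +kernel

theorem top_final21 : allBlock top.chkFinal 110808 512 21 = true := by decide +kernel

theorem top_final22 : allBlock top.chkFinal 110808 512 22 = true := by decide +kernel

theorem top_final23 : allBlock top.chkFinal 110808 512 23 = true := by decide +kernel

theorem top_final24 : allBlock top.chkFinal 110808 512 24 = true := by decide +kernel

theorem top_final25 : allBlock top.chkFinal 110808 512 25 = true := by decide +kernel

theorem top_final26 : allBlock top.chkFinal 110808 512 26 = true := by decide +kernel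

theorem top_final27 : allBlock top.chkFinal 110808 512 27 = true := by decide +kernel

theorem top_final28 : allBlock top.chkFinal 110808 512 28 = true := by decide +kernel

theorem top_final29 : allBlock top.chkFinal 110808 512 29 = true := by decide +kernel

theorem top_final30 : allBlock top.chkFinal 110808 512 30 = true := by decide +kernel

theorem top_final31 : allBlock top.chkFinal 110808 512 31 = true := by decide +kernel

theorem top_final32 : allBlock top.chkFinal 110808 512 32 = true := by decide +kernel

theorem top_final33 : allBlock top.chkFinal 110808 512 33 = true := by decide +kernel

theorem top_final34 : allBlock top.chkFinal 110808 512 34 = true := by decide +kernel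

theorem top_final35 : allBlock top.chkFinal 110808 512 35 = true := by decide +kernel

theorem top_final36 : allBlock top.chkFinal 110808 512 36 = true := by decide +kernel

theorem top_final37 : allBlock top.chkFinal 110808 512 37 = true := by decide +kernel

theorem top_final38 : allBlock top.chkFinal 110808 512 38 = true := by decide +kernel

theorem top_final39 : allBlock top.chkFinal 110808 512 39 = true := by decide +kernel

theorem top_final40 : allBlock top.chkFinal 110808 512 40 = true := by decide +kernel

theorem top_final41 : allBlock top.chkFinal 110808 512 41 = true := by decide +kernel

theorem top_final42 : allBlock top.chkFinal 110808 512 42 = true := by decide +kernel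

theorem top_final43 : allBlock top.chkFinal 110808 512 43 = true := by decide +kernel

theorem top_final44 : allBlock top.chkFinal 110808 512 44 = true := by decide +kernel

theorem top_final45 : allBlock top.chkFinal 110808 512 45 = true := by decide +kernel

theorem top_final46 : allBlock top.chkFinal 110808 512 46 = true := by decide +kernel

theorem top_final47 : allBlock top.chkFinal 110808 512 47 = true := by decide +kernel

theorem top_final48 : allBlock top.chkFinal 110808 512 48 = true := by decide +kernel

theorem top_final49 : allBlock top.chkFinal 110808 512 49 = true := by decide +kernel

theorem top_final50 : allBlock top.chkFinal 110808 512 50 = true := by decide +kernel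

theorem top_final51 : allBlock top.chkFinal 110808 512 51 = true := by decide +kernel

theorem top_final52 : allBlock top.chkFinal 110808 512 52 = true := by decide +kernel

theorem top_final53 : allBlock top.chkFinal 110808 512 53 = true := by decide +kernel

theorem top_final54 : allBlock top.chkFinal 110808 512 54 = true := by decide +kernel

theorem top_final55 : allBlock top.chkFinal 110808 512 55 = true := by decide +kernel

theorem top_final56 : allBlock top.chkFinal 110808 512 56 = true := by decide +kernel

theorem top_final57 : allBlock top.chkFinal 110808 512 57 = true := by decide +kernel

theorem top_final58 : allBlock top.chkFinal 110808 512 58 = true := by decide +kernel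

theorem top_final59 : allBlock top.chkFinal 110808 512 59 = true := by decide +kernel

theorem top_final60 : allBlock top.chkFinal 110808 512 60 = true := by decide +kernel

theorem top_final61 : allBlock top.chkFinal 110808 512 61 = true := by decide +kernel

theorem top_final62 : allBlock top.chkFinal 110808 512 62 = true := by decide +kernel

theorem top_final63 : allBlock top.chkFinal 110808 512 63 = true := by decide +kernel

theorem top_final64 : allBlock top.chkFinal 110808 512 64 = true := by decide +kernel

theorem top_final65 : allBlock top.chkFinal 110808 512 65 = true := by decide +kernel

theorem top_final66 : allBlock top.chkFinal 110808 512 66 = true := by decide +kernel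

theorem top_final67 : allBlock top.chkFinal 110808 512 67 = true := by decide +kernel

theorem top_final68 : allBlock top.chkFinal 110808 512 68 = true := by decide +kernel

theorem top_final69 : allBlock top.chkFinal 110808 512 69 = true := by decide +kernel

theorem top_final70 : allBlock top.chkFinal 110808 512 70 = true := by decide +kernel

theorem top_final71 : allBlock top.chkFinal 110808 512 71 = true := by decide +kernel

theorem top_final72 : allBlock top.chkFinal 110808 512 72 = true := by decide +kernel

theorem top_final73 : allBlock top.chkFinal 110808 512 73 = true := by decide +kernel

theorem top_final74 : allBlock top.chkFinal 110808 512 74 = true := by decide +kernel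

theorem top_final75 : allBlock top.chkFinal 110808 512 75 = true := by decide +kernel

theorem top_final76 : allBlock top.chkFinal 110808 512 76 = true := by decide +kernel

theorem top_final77 : allBlock top.chkFinal 110808 512 77 = true := by decide +kernel

theorem top_final78 : allBlock top.chkFinal 110808 512 78 = true := by decide +kernel

theorem top_final79 : allBlock top.chkFinal 110808 512 79 = true := by decide +kernel

theorem top_final80 : allBlock top.chkFinal 110808 512 80 = true := by decide +kernel

theorem top_final81 : allBlock top.chkFinal 110808 512 81 = true := by decide +kernel

theorem top_final82 : allBlock top.chkFinal 110808 512 82 = true := by decide +kernel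

theorem top_final83 : allBlock top.chkFinal 110808 512 83 = true := by decide +kernel

theorem top_final84 : allBlock top.chkFinal 110808 512 84 = true := by decide +kernel

theorem top_final85 : allBlock top.chkFinal 110808 512 85 = true := by decide +kernel

theorem top_final86 : allBlock top.chkFinal 110808 512 86 = true := by decide +kernel

theorem top_final87 : allBlock top.chkFinal 110808 512 87 = true := by decide +kernel

theorem top_final88 : allBlock top.chkFinal 110808 512 88 = true := by decide +kernel

theorem top_final89 : allBlock top.chkFinal 110808 512 89 = true := by decide +kernel

theorem top_final90 : allBlock top.chkFinal 110808 512 90 = true := by decide +kernel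

theorem top_final91 : allBlock top.chkFinal 110808 512 91 = true := by decide +kernel

theorem top_final92 : allBlock top.chkFinal 110808 512 92 = true := by decide +kernel

theorem top_final93 : allBlock top.chkFinal 110808 512 93 = true := by decide +kernel

theorem top_final94 : allBlock top.chkFinal 110808 512 94 = true := by decide +kernel

theorem top_final95 : allBlock top.chkFinal 110808 512 95 = true := by decide +kernel

theorem top_final96 : allBlock top.chkFinal 110808 512 96 = true := by decide +kernel

theorem top_final97 : allBlock top.chkFinal 110808 512 97 = true := by decide +kernel

theorem top_final98 : allBlock top.chkFinal 110808 512 98 = true := by decide +kernel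

theorem top_final99 : allBlock top.chkFinal 110808 512 99 = true := by decide +kernel

theorem top_final100 : allBlock top.chkFinal 110808 512 100 = true := by decide +kernel

theorem top_final101 : allBlock top.chkFinal 110808 512 101 = true := by decide +kernel

theorem top_final102 : allBlock top.chkFinal 110808 512 102 = true := by decide +kernel

theorem top_final103 : allBlock top.chkFinal 110808 512 103 = true := by decide +kernel

theorem top_final104 : allBlock top.chkFinal 110808 512 104 = true := by decide +kernel

theorem top_final105 : allBlock top.chkFinal 110808 512 105 = true := by decide +kernel

theorem top_final106 : allBlock top.chkFinal 110808 512 106 = true := by decide +kernel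

theorem top_final107 : allBlock top.chkFinal 110808 512 107 = true := by decide +kernel

theorem top_final108 : allBlock top.chkFinal 110808 512 108 = true := by decide +kernel

theorem top_final109 : allBlock top.chkFinal 110808 512 109 = true := by decide +kernel

theorem top_final110 : allBlock top.chkFinal 110808 512 110 = true := by decide +kernel

theorem top_final111 : allBlock top.chkFinal 110808 512 111 = true := by decide +kernel

theorem top_final112 : allBlock top.chkFinal 110808 512 112 = true := by decide +kernel

theorem top_final113 : allBlock top.chkFinal 110808 512 113 = true := by decide +kernel

theorem top_final114 : allBlock top.chkFinal 110808 512 114 = true := by decide +kernel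

theorem top_final115 : allBlock top.chkFinal 110808 512 115 = true := by decide +kernel

theorem top_final116 : allBlock top.chkFinal 110808 512 116 = true := by decide +kernel

theorem top_final117 : allBlock top.chkFinal 110808 512 117 = true := by decide +kernel

theorem top_final118 : allBlock top.chkFinal 110808 512 118 = true := by decide +kernel

theorem top_final119 : allBlock top.chkFinal 110808 512 119 = true := by decide +kernel

theorem top_final120 : allBlock top.chkFinal 110808 512 120 = true := by decide +kernel

theorem top_final121 : allBlock top.chkFinal 110808 512 121 = true := by decide +kernel

theorem top_final122 : allBlock top.chkFinal 110808 512 122 = true := by decide +kernel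

theorem top_final123 : allBlock top.chkFinal 110808 512 123 = true := by decide +kernel

theorem top_final124 : allBlock top.chkFinal 110808 512 124 = true := by decide +kernel

theorem top_final125 : allBlock top.chkFinal 110808 512 125 = true := by decide +kernel

theorem top_final126 : allBlock top.chkFinal 110808 512 126 = true := by decide +kernel

theorem top_final127 : allBlock top.chkFinal 110808 512 127 = true := by decide +kernel

theorem top_final128 : allBlock top.chkFinal 110808 512 128 = true := by decide +kernel

theorem top_final129 : allBlock top.chkFinal 110808 512 129 = true := by decide +kernel

theorem top_final130 : allBlock top.chkFinal 110808 512 130 = true := by decide +kernel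

theorem top_final131 : allBlock top.chkFinal 110808 512 131 = true := by decide +kernel

theorem top_final132 : allBlock top.chkFinal 110808 512 132 = true := by decide +kernel

theorem top_final133 : allBlock top.chkFinal 110808 512 133 = true := by decide +kernel

theorem top_final134 : allBlock top.chkFinal 110808 512 134 = true := by decide +kernel

theorem top_final135 : allBlock top.chkFinal 110808 512 135 = true := by decide +kernel

theorem top_final136 : allBlock top.chkFinal 110808 512 136 = true := by decide +kernel

theorem top_final137 : allBlock top.chkFinal 110808 512 137 = true := by decide +kernel

theorem top_final138 : allBlock top.chkFinal 110808 512 138 = true := by decide +kernel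

theorem top_final139 : allBlock top.chkFinal 110808 512 139 = true := by decide +kernel

theorem top_final140 : allBlock top.chkFinal 110808 512 140 = true := by decide +kernel

theorem top_final141 : allBlock top.chkFinal 110808 512 141 = true := by decide +kernel

theorem top_final142 : allBlock top.chkFinal 110808 512 142 = true := by decide +kernel

theorem top_final143 : allBlock top.chkFinal 110808 512 143 = true := by decide +kernel

theorem top_final144 : allBlock top.chkFinal 110808 512 144 = true := by decide +kernel

theorem top_final145 : allBlock top.chkFinal 110808 512 145 = true := by decide +kernel

theorem top_final146 : allBlock top.chkFinal 110808 512 146 = true := by decide +kernel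

theorem top_final147 : allBlock top.chkFinal 110808 512 147 = true := by decide +kernel

theorem top_final148 : allBlock top.chkFinal 110808 512 148 = true := by decide +kernel

theorem top_final149 : allBlock top.chkFinal 110808 512 149 = true := by decide +kernel

theorem top_final150 : allBlock top.chkFinal 110808 512 150 = true := by decide +kernel

theorem top_final151 : allBlock top.chkFinal 110808 512 151 = true := by decide +kernel

theorem top_final152 : allBlock top.chkFinal 110808 512 152 = true := by decide +kernel

theorem top_final153 : allBlock top.chkFinal 110808 512 153 = true := by decide +kernel

theorem top_final154 : allBlock top.chkFinal 110808 512 154 = true := by decide +kernel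

theorem top_final155 : allBlock top.chkFinal 110808 512 155 = true := by decide +kernel

theorem top_final156 : allBlock top.chkFinal 110808 512 156 = true := by decide +kernel

theorem top_final157 : allBlock top.chkFinal 110808 512 157 = true := by decide +kernel

theorem top_final158 : allBlock top.chkFinal 110808 512 158 = true := by decide +kernel

theorem top_final159 : allBlock top.chkFinal 110808 512 159 = true := by decide +kernel

theorem top_final160 : allBlock top.chkFinal 110808 512 160 = true := by decide +kernel

theorem top_final161 : allBlock top.chkFinal 110808 512 161 = true := by decide +kernel

theorem top_final162 : allBlock top.chkFinal 110808 512 162 = true := by decide +kernel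

theorem top_final163 : allBlock top.chkFinal 110808 512 163 = true := by decide +kernel

theorem top_final164 : allBlock top.chkFinal 110808 512 164 = true := by decide +kernel

theorem top_final165 : allBlock top.chkFinal 110808 512 165 = true := by decide +kernel

theorem top_final166 : allBlock top.chkFinal 110808 512 166 = true := by decide +kernel

theorem top_final167 : allBlock top.chkFinal 110808 512 167 = true := by decide +kernel

theorem top_final168 : allBlock top.chkFinal 110808 512 168 = true := by decide +kernel

theorem top_final169 : allBlock top.chkFinal 110808 512 169 = true := by decide +kernel

theorem top_final170 : allBlock top.chkFinal 110808 512 170 = true := by decide +kernel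

theorem top_final171 : allBlock top.chkFinal 110808 512 171 = true := by decide +kernel

theorem top_final172 : allBlock top.chkFinal 110808 512 172 = true := by decide +kernel

theorem top_final173 : allBlock top.chkFinal 110808 512 173 = true := by decide +kernel

theorem top_final174 : allBlock top.chkFinal 110808 512 174 = true := by decide +kernel

theorem top_final175 : allBlock top.chkFinal 110808 512 175 = true := by decide +kernel

theorem top_final176 : allBlock top.chkFinal 110808 512 176 = true := by decide +kernel

theorem top_final177 : allBlock top.chkFinal 110808 512 177 = true := by decide +kernel

theorem top_final178 : allBlock top.chkFinal 110808 512 178 = true := by decide +kernel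

theorem top_final179 : allBlock top.chkFinal 110808 512 179 = true := by decide +kernel

theorem top_final180 : allBlock top.chkFinal 110808 512 180 = true := by decide +kernel

theorem top_final181 : allBlock top.chkFinal 110808 512 181 = true := by decide +kernel

theorem top_final182 : allBlock top.chkFinal 110808 512 182 = true := by decide +kernel

theorem top_final183 : allBlock top.chkFinal 110808 512 183 = true := by decide +kernel

theorem top_final184 : allBlock top.chkFinal 110808 512 184 = true := by decide +kernel

theorem top_final185 : allBlock top.chkFinal 110808 512 185 = true := by decide +kernel

theorem top_final186 : allBlock top.chkFinal 110808 512 186 = true := by decide +kernel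

theorem top_final187 : allBlock top.chkFinal 110808 512 187 = true := by decide +kernel

theorem top_final188 : allBlock top.chkFinal 110808 512 188 = true := by decide +kernel

theorem top_final189 : allBlock top.chkFinal 110808 512 189 = true := by decide +kernel

theorem top_final190 : allBlock top.chkFinal 110808 512 190 = true := by decide +kernel

theorem top_final191 : allBlock top.chkFinal 110808 512 191 = true := by decide +kernel

theorem top_final192 : allBlock top.chkFinal 110808 512 192 = true := by decide +kernel

theorem top_final193 : allBlock top.chkFinal 110808 512 193 = true := by decide +kernel

theorem top_final194 : allBlock top.chkFinal 110808 512 194 = true := by decide +kernel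

theorem top_final195 : allBlock top.chkFinal 110808 512 195 = true := by decide +kernel

theorem top_final196 : allBlock top.chkFinal 110808 512 196 = true := by decide +kernel

theorem top_final197 : allBlock top.chkFinal 110808 512 197 = true := by decide +kernel

theorem top_final198 : allBlock top.chkFinal 110808 512 198 = true := by decide +kernel

theorem top_final199 : allBlock top.chkFinal 110808 512 199 = true := by decide +kernel

theorem top_final200 : allBlock top.chkFinal 110808 512 200 = true := by decide +kernel

theorem top_final201 : allBlock top.chkFinal 110808 512 201 = true := by decide +kernel

theorem top_final202 : allBlock top.chkFinal 110808 512 202 = true := by decide +kernel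

theorem top_final203 : allBlock top.chkFinal 110808 512 203 = true := by decide +kernel

theorem top_final204 : allBlock top.chkFinal 110808 512 204 = true := by decide +kernel

theorem top_final205 : allBlock top.chkFinal 110808 512 205 = true := by decide +kernel

theorem top_final206 : allBlock top.chkFinal 110808 512 206 = true := by decide +kernel

theorem top_final207 : allBlock top.chkFinal 110808 512 207 = true := by decide +kernel

theorem top_final208 : allBlock top.chkFinal 110808 512 208 = true := by decide +kernel

theorem top_final209 : allBlock top.chkFinal 110808 512 209 = true := by decide +kernel

theorem top_final210 : allBlock top.chkFinal 110808 512 210 = true := by decide +kernel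

theorem top_final211 : allBlock top.chkFinal 110808 512 211 = true := by decide +kernel

theorem top_final212 : allBlock top.chkFinal 110808 512 212 = true := by decide +kernel

theorem top_final213 : allBlock top.chkFinal 110808 512 213 = true := by decide +kernel

theorem top_final214 : allBlock top.chkFinal 110808 512 214 = true := by decide +kernel

theorem top_final215 : allBlock top.chkFinal 110808 512 215 = true := by decide +kernel

theorem top_final216 : allBlock top.chkFinal 110808 512 216 = true := by decide +kernel

theorem top_checks : top.Checks where
  pos := by decide +kernel
  defs := top_defs
  facts := top_facts
  final := by
    intro k hk
    change k < 18468 * 6 at hk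
    refine of_allBlock (n := 110808) (size := 512) (by decide) (fun j hj => ?_) (by omega)
    have hj' : j < 217 := by omega
    interval_cases j
    · exact top_final0
    · exact top_final1
    · exact top_final2
    · exact top_final3
    · exact top_final4
    · exact top_final5
    · exact top_final6
    · exact top_final7
    · exact top_final8
    · exact top_final9
    · exact top_final10
    · exact top_final11
    · exact top_final12
    · exact top_final13
    · exact top_final14
    · exact top_final15
    · exact top_final16
    · exact top_final17
    · exact top_final18
    · exact top_final19
    · exact top_final20
    · exact top_final21
    · exact top_final22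
    · exact top_final23
    · exact top_final24
    · exact top_final25
    · exact top_final26
    · exact top_final27
    · exact top_final28
    · exact top_final29
    · exact top_final30
    · exact top_final31
    · exact top_final32
    · exact top_final33
    · exact top_final34
    · exact top_final35
    · exact top_final36
    · exact top_final37
    · exact top_final38
    · exact top_final39
    · exact top_final40
    · exact top_final41
    · exact top_final42
    · exact top_final43
    · exact top_final44
    · exact top_final45
    · exact top_final46
    · exact top_final47
    · exact top_final48
    · exact top_final49
    · exact top_final50
    · exact top_final51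
    · exact top_final52
    · exact top_final53
    · exact top_final54
    · exact top_final55
    · exact top_final56
    · exact top_final57
    · exact top_final58
    · exact top_final59
    · exact top_final60
    · exact top_final61
    · exact top_final62
    · exact top_final63
    · exact top_final64
    · exact top_final65
    · exact top_final66
    · exact top_final67
    · exact top_final68
    · exact top_final69
    · exact top_final70
    · exact top_final71
    · exact top_final72
    · exact top_final73
    · exact top_final74
    · exact top_final75
    · exact top_final76
    · exact top_final77
    · exact top_final78
    · exact top_final79
    · exact top_final80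
    · exact top_final81
    · exact top_final82
    · exact top_final83
    · exact top_final84
    · exact top_final85
    · exact top_final86
    · exact top_final87
    · exact top_final88
    · exact top_final89
    · exact top_final90
    · exact top_final91
    · exact top_final92
    · exact top_final93
    · exact top_final94
    · exact top_final95
    · exact top_final96
    · exact top_final97
    · exact top_final98
    · exact top_final99
    · exact top_final100
    · exact top_final101
    · exact top_final102
    · exact top_final103
    · exact top_final104
    · exact top_final105
    · exact top_final106
    · exact top_final107
    · exact top_final108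
    · exact top_final109
    · exact top_final110
    · exact top_final111
    · exact top_final112
    · exact top_final113
    · exact top_final114
    · exact top_final115
    · exact top_final116
    · exact top_final117
    · exact top_final118
    · exact top_final119
    · exact top_final120
    · exact top_final121
    · exact top_final122
    · exact top_final123
    · exact top_final124
    · exact top_final125
    · exact top_final126
    · exact top_final127
    · exact top_final128
    · exact top_final129
    · exact top_final130
    · exact top_final131
    · exact top_final132
    · exact top_final133
    · exact top_final134
    · exact top_final135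
    · exact top_final136
    · exact top_final137
    · exact top_final138
    · exact top_final139
    · exact top_final140
    · exact top_final141
    · exact top_final142
    · exact top_final143
    · exact top_final144
    · exact top_final145
    · exact top_final146
    · exact top_final147
    · exact top_final148
    · exact top_final149
    · exact top_final150
    · exact top_final151
    · exact top_final152
    · exact top_final153
    · exact top_final154
    · exact top_final155
    · exact top_final156
    · exact top_final157
    · exact top_final158
    · exact top_final159
    · exact top_final160
    · exact top_final161
    · exact top_final162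
    · exact top_final163
    · exact top_final164
    · exact top_final165
    · exact top_final166
    · exact top_final167
    · exact top_final168
    · exact top_final169
    · exact top_final170
    · exact top_final171
    · exact top_final172
    · exact top_final173
    · exact top_final174
    · exact top_final175
    · exact top_final176
    · exact top_final177
    · exact top_final178
    · exact top_final179
    · exact top_final180
    · exact top_final181
    · exact top_final182
    · exact top_final183
    · exact top_final184
    · exact top_final185
    · exact top_final186
    · exact top_final187
    · exact top_final188
    · exact top_final189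
    · exact top_final190
    · exact top_final191
    · exact top_final192
    · exact top_final193
    · exact top_final194
    · exact top_final195
    · exact top_final196
    · exact top_final197
    · exact top_final198
    · exact top_final199
    · exact top_final200
    · exact top_final201
    · exact top_final202
    · exact top_final203
    · exact top_final204
    · exact top_final205
    · exact top_final206
    · exact top_final207
    · exact top_final208
    · exact top_final209
    · exact top_final210
    · exact top_final211
    · exact top_final212
    · exact top_final213
    · exact top_final214
    · exact top_final215
    · exact top_final216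

theorem top_derived : top.rels.all (derivedOk top.n topBase) = true := by decide +kernel

end Cfsg.Agent.Fus.J3Uniq.Cert
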